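import Mathlib

/-! Symmetric two-cocycles of a formally smooth algebra are coboundaries. -/

set_option autoImplicit false

universe u v

namespace Groth.Agent.HochLib

variable {A : Type u} {B L : Type v} [CommRing A] [CommRing B] [Algebra A B] [AddCommGroup L] [Module B L]
  [Module A L] [IsScalarTower A B L]

/-- A symmetric two-cocycle. -/
structure Cocycle (A : Type u) (B L : Type v) [CommRing A] [CommRing B] [Algebra A B] [AddCommGroup L]
    [Module B L] [Module A L] where
  f : B →ₗ[A] B →ₗ[A] L
  symm : ∀ x y : B, f x y = f y x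
  coc : ∀ x y z : B, f (x * y) z + z • f x y = x • f y z + f x (y * z)

theorem Cocycle.one_left (c : Cocycle A B L) (z : B) : c.f 1 z = z • c.f 1 1 := by
  have h := c.coc 1 1 z
  rw [mul_one, one_mul, one_smul] at h
  exact (add_left_cancel h).symm

/-- The square-zero extension of a cocycle. -/
def Twist (_c : Cocycle A B L) : Type v := B × L

instance (c : Cocycle A B L) : AddCommGroup (Twist c) := inferInstanceAs (AddCommGroup (B × L))

instance (c : Cocycle A B L) : Module A (Twist c) := inferInstanceAs (Module A (B × L))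

variable {c : Cocycle A B L}

/-- Constructor. -/
def Twist.mk (b : B) (z : L) : Twist c := (b, z)

@[ext]
theorem Twist.ext {x y : Twist c} (h1 : x.1 = y.1) (h2 : x.2 = y.2) : x = y := Prod.ext h1 h2

instance : Mul (Twist c) := ⟨fun x y => (x.1 * y.1, x.1 • y.2 + y.1 • x.2 + c.f x.1 y.1)⟩

instance : One (Twist c) := ⟨(1, -c.f 1 1)⟩

@[simp] theorem Twist.mk_fst (b : B) (z : L) : (Twist.mk (c := c) b z).1 = b := rfl
@[simp] theorem Twist.mk_snd (b : B) (z : L) : (Twist.mk (c := c) b z).2 = z := rfl
@[simp] theorem Twist.mul_fst (x y : Twist c) : (x * y).1 = x.1 * y.1 := rfl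
@[simp] theorem Twist.mul_snd (x y : Twist c) : (x * y).2 = x.1 • y.2 + y.1 • x.2 + c.f x.1 y.1 := rfl
@[simp] theorem Twist.one_fst : (1 : Twist c).1 = 1 := rfl
@[simp] theorem Twist.one_snd : (1 : Twist c).2 = -c.f 1 1 := rfl
@[simp] theorem Twist.add_fst (x y : Twist c) : (x + y).1 = x.1 + y.1 := rfl
@[simp] theorem Twist.add_snd (x y : Twist c) : (x + y).2 = x.2 + y.2 := rfl
@[simp] theorem Twist.zero_fst : (0 : Twist c).1 = 0 := rfl
@[simp] theorem Twist.zero_snd : (0 : Twist c).2 = 0 := rfl
@[simp] theorem Twist.smul_fst (a : A) (x : Twist c) : (a • x).1 = a • x.1 := rfl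
@[simp] theorem Twist.smul_snd (a : A) (x : Twist c) : (a • x).2 = a • x.2 := rfl

theorem Twist.mul_comm' (x y : Twist c) : x * y = y * x := by
  refine Twist.ext (mul_comm _ _) ?_
  simp only [Twist.mul_snd, c.symm x.1 y.1]
  abel

theorem Twist.one_mul' (x : Twist c) : 1 * x = x := by
  refine Twist.ext (one_mul _) ?_
  simp only [Twist.mul_snd, Twist.one_fst, Twist.one_snd, one_smul, smul_neg, c.one_left x.1]
  abel

instance : CommRing (Twist c) :=
  { (inferInstance : AddCommGroup (Twist c)), (inferInstance : Mul (Twist c)), (inferInstance : One (Twist c)) with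
    mul_assoc := fun x y z => by
      refine Twist.ext (mul_assoc _ _ _) ?_
      have h := c.coc x.1 y.1 z.1
      simp only [Twist.mul_snd, Twist.mul_fst, smul_add, mul_smul]
      rw [smul_comm z.1 x.1, smul_comm z.1 y.1]
      calc _ = x.1 • y.1 • z.2 + x.1 • z.1 • y.2 + y.1 • z.1 • x.2 +
            (c.f (x.1 * y.1) z.1 + z.1 • c.f x.1 y.1) := by
              abel
        _ = _ := by rw [h]; abel
    one_mul := Twist.one_mul'
    mul_one := fun x => by rw [Twist.mul_comm']; exact Twist.one_mul' x
    left_distrib := fun x y z => by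
      refine Twist.ext (mul_add _ _ _) ?_
      simp only [Twist.mul_snd, Twist.add_fst, Twist.add_snd, smul_add, add_smul, map_add]
      abel
    right_distrib := fun x y z => by
      refine Twist.ext (add_mul _ _ _) ?_
      simp only [Twist.mul_snd, Twist.add_fst, Twist.add_snd, smul_add, add_smul, map_add, LinearMap.add_apply]
      abel
    zero_mul := fun x => by refine Twist.ext (zero_mul _) ?_; simp
    mul_zero := fun x => by refine Twist.ext (mul_zero _) ?_; simp
    mul_comm := Twist.mul_comm' }

instance : Algebra A (Twist c) :=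
  Algebra.ofModule
    (fun a x y => by
      refine Twist.ext (smul_mul_assoc a x.1 y.1) ?_
      simp only [Twist.mul_snd, Twist.smul_fst, Twist.smul_snd, smul_add, smul_assoc, smul_comm a y.1,
        map_smul, LinearMap.smul_apply])
    (fun a x y => by
      refine Twist.ext (mul_smul_comm a x.1 y.1) ?_
      simp only [Twist.mul_snd, Twist.smul_fst, Twist.smul_snd, smul_add, smul_assoc, smul_comm a x.1, map_smul])

/-- The projection to `B`. -/
def Twist.proj : Twist c →ₐ[A] B where
  toFun x := x.1
  map_one' := rfl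
  map_mul' _ _ := rfl
  map_zero' := rfl
  map_add' _ _ := rfl
  commutes' a := by
    rw [Algebra.algebraMap_eq_smul_one, Algebra.algebraMap_eq_smul_one]
    rfl

theorem exists_coboundary [Algebra.FormallySmooth A B] (c : Cocycle A B L) :
    ∃ g : B →ₗ[A] L, ∀ x y : B, c.f x y = x • g y - g (x * y) + y • g x := by
  have hs : Function.Surjective (Twist.proj (c := c)) := fun b => ⟨Twist.mk b 0, rfl⟩
  have hn : IsNilpotent (RingHom.ker (Twist.proj (c := c) : Twist c →+* B)) := by
    refine ⟨2, le_antisymm ?_ bot_le⟩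
    rw [pow_two]
    refine Ideal.mul_le.2 fun x hx y hy => ?_
    rw [RingHom.mem_ker] at hx hy
    have hx' : x.1 = 0 := hx
    have hy' : y.1 = 0 := hy
    refine Ideal.mem_bot.2 (Twist.ext ?_ ?_) <;> simp [hx', hy']
  let s := Algebra.FormallySmooth.liftOfSurjective (AlgHom.id A B) Twist.proj hs hn
  have hsb : ∀ b, (s b).1 = b := fun b =>
    Algebra.FormallySmooth.liftOfSurjective_apply (AlgHom.id A B) Twist.proj hs hn b
  let h : B →ₗ[A] L :=
    { toFun := fun b => (s b).2
      map_add' := fun x y => by show (s (x + y)).2 = _; rw [map_add]; rfl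
      map_smul' := fun a x => by show (s (a • x)).2 = _; rw [map_smul]; rfl }
  refine ⟨-h, fun x y => ?_⟩
  have h1 : (s (x * y)).2 = (s x * s y).2 := by rw [map_mul]
  rw [Twist.mul_snd, hsb, hsb] at h1
  simp only [LinearMap.neg_apply, smul_neg, sub_neg_eq_add]
  show c.f x y = -(x • (s y).2) + (s (x * y)).2 + -(y • (s x).2)
  rw [h1]
  abel

end Groth.Agent.HochLib
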